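import Groth.Agent.ResProp.EF.K290.TorBd

/-!
# The tower (S16912, F3, part B)

If every element of every object is hit by a complex of lower Tor bound `0`, then every object is a
quotient of a flat object.
-/

set_option autoImplicit false
set_option linter.unusedSectionVars false

universe w v u

open CategoryTheory CategoryTheory.Limits HomologicalComplex CochainComplex

namespace Groth.Agent.ResProp.EF.K290

variable {R : Type u} [CommRing R] {C : Type v} [Category.{w} C] [Abelian C]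
  (F : C ⥤ ModuleCat.{u} R)

/-- `T^i ⟶ Z` kills boundaries and sends some cycle `t` to `z`. -/
def Hits (i : ℤ) (T : CochainComplex C ℤ) {Z : C} (z : F.obj Z) : Prop :=
  ∃ (f : T.X i ⟶ Z) (t : F.obj (T.X i)), T.d (i - 1) i ≫ f = 0 ∧
    (F.map (T.d i (i + 1))).hom t = 0 ∧ (F.map f).hom t = z

section elementwise

variable [F.Additive] [PreservesFiniteLimits F] [PreservesFiniteColimits F]

lemma exactAt_of_forall [F.Faithful] (K : CochainComplex C ℤ) (i : ℤ)
    (h : ∀ y : F.obj (K.X i), (F.map (K.d i (i + 1))).hom y = 0 →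
      ∃ x : F.obj (K.X (i - 1)), (F.map (K.d (i - 1) i)).hom x = y) : K.ExactAt i := by
  rw [K.exactAt_iff' (i - 1) i (i + 1) (by simp) (by simp)]
  rw [← ShortComplex.exact_map_iff_of_faithful _ F]
  rw [ShortComplex.moduleCat_exact_iff]
  intro y hy
  exact h y hy

lemma exists_cycle (K : CochainComplex C ℤ) (i : ℤ) (y : F.obj (K.X i))
    (hy : (F.map (K.d i (i + 1))).hom y = 0) :
    ∃ z : F.obj (K.cycles i), (F.map (K.iCycles i)).hom z = y := by
  have hex : (ShortComplex.mk (K.iCycles i) (K.d i (i + 1)) (K.iCycles_d i (i + 1))).Exact :=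
    ShortComplex.exact_of_f_is_kernel _ (K.cyclesIsKernel i (i + 1) (by simp))
  have := hex.map F
  rw [ShortComplex.moduleCat_exact_iff] at this
  exact this y hy

omit [F.Additive] [PreservesFiniteLimits F] [PreservesFiniteColimits F] in
lemma shift_d_iso (T : CochainComplex C ℤ) (n i j i' j' : ℤ) (hi : i' = i + n) (hj : j' = j + n) :
    (T⟦n⟧).d i j ≫ (T.shiftFunctorObjXIso n j j' hj).hom =
      (T.shiftFunctorObjXIso n i i' hi).hom ≫ (n.negOnePow • T.d i' j') := by
  subst hi hj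
  exact (Category.comp_id _).trans (Category.id_comp _).symm

lemma Hits.shift {T : CochainComplex C ℤ} {Z : C} {z : F.obj Z} (h : Hits F 0 T z) (i : ℤ) :
    Hits F i (T⟦-i⟧) z := by
  obtain ⟨f, t, h1, h2, h3⟩ := h
  let e := T.shiftFunctorObjXIso (-i) i 0 (by lia)
  refine ⟨e.hom ≫ f, (F.map e.inv).hom t, ?_, ?_, ?_⟩
  · have := shift_d_iso T (-i) (i - 1) i (0 - 1) 0 (by lia) (by lia)
    rw [reassoc_of% this, Linear.units_smul_comp, h1, smul_zero, comp_zero]
  · let e' := T.shiftFunctorObjXIso (-i) (i + 1) (0 + 1) (by lia)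
    have h4 : e.inv ≫ (T⟦-i⟧).d i (i + 1) = ((-i).negOnePow • T.d 0 (0 + 1)) ≫ e'.inv := by
      have := shift_d_iso T (-i) i (i + 1) 0 (0 + 1) (by lia) (by lia)
      rw [Iso.inv_comp_eq, ← Category.assoc, Iso.eq_comp_inv]
      exact this
    rw [← ModuleCat.comp_apply, ← F.map_comp, h4, F.map_comp, ModuleCat.comp_apply]
    have h5 : F.map ((-i).negOnePow • T.d 0 (0 + 1)) = (-i).negOnePow • F.map (T.d 0 (0 + 1)) := by
      rw [Units.smul_def, F.map_zsmul, Units.smul_def]
    rw [h5]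
    have h6 : (ModuleCat.Hom.hom ((-i).negOnePow • F.map (T.d 0 (0 + 1)))) t = 0 := by
      rw [Units.smul_def, ModuleCat.hom_zsmul, LinearMap.smul_apply, h2, smul_zero]
    rw [h6, map_zero]
  · rw [← ModuleCat.comp_apply, ← F.map_comp, Iso.inv_hom_id_assoc, h3]

end elementwise

section tower

variable [F.Additive] [PreservesFiniteLimits F] [PreservesFiniteColimits F]
  [HasCoproducts.{u} C] [HasColimitsOfShape ℕ C] (B : TorBd F)

/-- the hypothesis: every element is hit by a complex of lower Tor bound `0`. -/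
def Hit0 : Prop := ∀ (Z : C) (z : F.obj Z), ∃ T : CochainComplex C ℤ, B.LB 0 T ∧ Hits F 0 T z

variable {F B}

lemma exists_cell (hyp : Hit0 F B) (G : CochainComplex C ℤ) (i : ℤ) (hi : 1 ≤ i)
    (y : F.obj (G.X i)) (hy : (F.map (G.d i (i + 1))).hom y = 0) :
    ∃ (T : CochainComplex C ℤ) (g : T ⟶ G), B.LB 1 T ∧ (∀ j, j ≠ i → g.f j = 0) ∧
      ∃ t : F.obj (T.X i), (F.map (T.d i (i + 1))).hom t = 0 ∧ (F.map (g.f i)).hom t = y := by
  obtain ⟨z, hz⟩ := exists_cycle F G i y hy
  obtain ⟨T, hT, hTz⟩ := hyp _ z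
  obtain ⟨f, t, h1, h2, h3⟩ := Hits.shift F hTz i
  have hf : ∀ k, (ComplexShape.up ℤ).Rel k i → (T⟦-i⟧).d k i ≫ f = 0 := by
    intro k hk
    obtain rfl : k = i - 1 := by simp at hk; lia
    exact h1
  have hc : ∀ k, (ComplexShape.up ℤ).Rel i k → G.iCycles i ≫ G.d i k = 0 := by
    intro k _
    simp
  refine ⟨T⟦-i⟧, mkHomToSingle f hf ≫ mkHomFromSingle (G.iCycles i) hc, ?_, ?_, t, h2, ?_⟩
  · exact B.mono (by lia) (B.shift (-i) hT)
  · intro j hj
    have : IsZero (((single C (ComplexShape.up ℤ) i).obj (G.cycles i)).X j) :=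
      isZero_single_obj_X _ _ _ _ hj
    rw [HomologicalComplex.comp_f, this.eq_of_tgt ((mkHomToSingle f hf).f j) 0, zero_comp]
  · rw [HomologicalComplex.comp_f, mkHomToSingle_f, mkHomFromSingle_f]
    simp only [Category.assoc, Iso.inv_hom_id_assoc, F.map_comp, ModuleCat.comp_apply]
    rw [h3, hz]

/-- index of the cells: positive degree cycles. -/
abbrev Idx (F : C ⥤ ModuleCat.{u} R) (G : CochainComplex C ℤ) : Type u :=
  Σ i : ℕ, {y : F.obj (G.X ((i : ℤ) + 1)) //
    (F.map (G.d ((i : ℤ) + 1) ((i : ℤ) + 1 + 1))).hom y = 0}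

lemma exists_kill (hyp : Hit0 F B) (G : CochainComplex C ℤ) (hG : B.LB 0 G) :
    ∃ (G' : CochainComplex C ℤ) (c : G ⟶ G'), B.LB 0 G' ∧
      (∀ (i : ℤ), 1 ≤ i → ∀ y : F.obj (G.X i), (F.map (G.d i (i + 1))).hom y = 0 →
        ∃ x : F.obj (G'.X (i - 1)), (F.map (G'.d (i - 1) i)).hom x = (F.map (c.f i)).hom y) ∧
      (∀ (M : C) (g : G ⟶ (single C (ComplexShape.up ℤ) 0).obj M),
        ∃ g' : G' ⟶ (single C (ComplexShape.up ℤ) 0).obj M, c ≫ g' = g) := by
  have key : ∀ j : Idx F G, ∃ (T : CochainComplex C ℤ) (g : T ⟶ G), B.LB 1 T ∧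
      (∀ k, k ≠ (j.1 : ℤ) + 1 → g.f k = 0) ∧
      ∃ t : F.obj (T.X ((j.1 : ℤ) + 1)),
        (F.map (T.d ((j.1 : ℤ) + 1) ((j.1 : ℤ) + 1 + 1))).hom t = 0 ∧
        (F.map (g.f ((j.1 : ℤ) + 1))).hom t = j.2.1 := fun j =>
    exists_cell hyp G _ (by lia) j.2.1 j.2.2
  choose T g hT hg t ht ht' using key
  let φ : (∐ T) ⟶ G := Sigma.desc g
  refine ⟨mappingCone φ, mappingCone.inr φ, B.cone φ (by simpa using B.sum T hT) hG, ?_, ?_⟩
  · intro i hi y hy
    obtain ⟨k, rfl⟩ : ∃ k : ℕ, i = (k : ℤ) + 1 := ⟨(i - 1).toNat, by lia⟩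
    let j : Idx F G := ⟨k, y, hy⟩
    let s : F.obj ((∐ T).X ((k : ℤ) + 1)) := (F.map ((Sigma.ι T j).f ((k : ℤ) + 1))).hom (t j)
    have hs : (F.map ((∐ T).d ((k : ℤ) + 1) ((k : ℤ) + 1 + 1))).hom s = 0 := by
      dsimp only [s]
      rw [← ModuleCat.comp_apply, ← F.map_comp, Hom.comm, F.map_comp, ModuleCat.comp_apply]
      rw [ht j, map_zero]
    have hs' : (F.map (φ.f ((k : ℤ) + 1))).hom s = y := by
      dsimp only [s]
      rw [← ModuleCat.comp_apply, ← F.map_comp, ← HomologicalComplex.comp_f]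
      have : Sigma.ι T j ≫ φ = g j := by simp [φ]
      rw [this]
      exact ht' j
    have hd := mappingCone.inl_v_d φ ((k : ℤ) + 1) ((k : ℤ) + 1 - 1) ((k : ℤ) + 1 + 1)
      (by lia) (by lia)
    refine ⟨(F.map ((mappingCone.inl φ).v ((k : ℤ) + 1) ((k : ℤ) + 1 - 1) (by lia))).hom s, ?_⟩
    rw [← ModuleCat.comp_apply, ← F.map_comp, hd, F.map_sub, F.map_comp, F.map_comp]
    change (ModuleCat.Hom.hom (_ - _)) s = _
    rw [ModuleCat.hom_sub, LinearMap.sub_apply]
    change (F.map ((mappingCone.inr φ).f _)).hom ((F.map (φ.f _)).hom s) -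
      (F.map _).hom ((F.map _).hom s) = _
    rw [hs, hs', map_zero, sub_zero]
  · intro M g₀
    have h0 : φ ≫ g₀ = 0 := by
      refine Sigma.hom_ext _ _ fun j => ?_
      have : Sigma.ι T j ≫ φ = g j := by simp [φ]
      rw [reassoc_of% this, comp_zero]
      refine HomologicalComplex.Hom.ext (funext fun n => ?_)
      rw [HomologicalComplex.comp_f]
      by_cases hn : n = 0
      · rw [hg j n (by lia), zero_comp]; rfl
      · exact (isZero_single_obj_X _ _ _ _ hn).eq_of_tgt _ _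
    refine ⟨mappingCone.desc φ 0 g₀ (by simp [h0]), by simp⟩

/-- a stage of the tower over `M[0]`. -/
structure St (B : TorBd F) (M : C) where
  G : CochainComplex C ℤ
  lb : B.LB 0 G
  g : G ⟶ (single C (ComplexShape.up ℤ) 0).obj M

variable {M : C}

/-- the next stage. -/
noncomputable def nxt (hyp : Hit0 F B) (s : St B M) : St B M where
  G := (exists_kill hyp s.G s.lb).choose
  lb := (exists_kill hyp s.G s.lb).choose_spec.choose_spec.1
  g := ((exists_kill hyp s.G s.lb).choose_spec.choose_spec.2.2 M s.g).choose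

/-- the map to the next stage. -/
noncomputable def nxtMap (hyp : Hit0 F B) (s : St B M) : s.G ⟶ (nxt hyp s).G :=
  (exists_kill hyp s.G s.lb).choose_spec.choose

lemma nxtMap_kill (hyp : Hit0 F B) (s : St B M) (i : ℤ) (hi : 1 ≤ i) (y : F.obj (s.G.X i))
    (hy : (F.map (s.G.d i (i + 1))).hom y = 0) :
    ∃ x : F.obj ((nxt hyp s).G.X (i - 1)),
      (F.map ((nxt hyp s).G.d (i - 1) i)).hom x = (F.map ((nxtMap hyp s).f i)).hom y :=
  (exists_kill hyp s.G s.lb).choose_spec.choose_spec.2.1 i hi y hy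

lemma nxtMap_g (hyp : Hit0 F B) (s : St B M) : nxtMap hyp s ≫ (nxt hyp s).g = s.g :=
  ((exists_kill hyp s.G s.lb).choose_spec.choose_spec.2.2 M s.g).choose_spec

/-- the stages. -/
noncomputable def stg (hyp : Hit0 F B) (s : St B M) : ℕ → St B M
  | 0 => s
  | n + 1 => nxt hyp (stg hyp s n)

/-- the tower as a functor. -/
noncomputable def seq (hyp : Hit0 F B) (s : St B M) : ℕ ⥤ CochainComplex C ℤ :=
  Functor.ofSequence (X := fun n => (stg hyp s n).G) (fun n => nxtMap hyp (stg hyp s n))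

lemma seq_map_succ (hyp : Hit0 F B) (s : St B M) (n : ℕ) :
    (seq hyp s).map (homOfLE (Nat.le_add_right n 1)) = nxtMap hyp (stg hyp s n) :=
  Functor.ofSequence_map_homOfLE_succ _ n

lemma seq_kill (hyp : Hit0 F B) (s : St B M) (n : ℕ) (i : ℤ) (hi : 1 ≤ i)
    (y : F.obj (((seq hyp s).obj n).X i))
    (hy : (F.map (((seq hyp s).obj n).d i (i + 1))).hom y = 0) :
    ∃ x : F.obj (((seq hyp s).obj (n + 1)).X (i - 1)),
      (F.map (((seq hyp s).obj (n + 1)).d (i - 1) i)).hom x =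
        (F.map (((seq hyp s).map (homOfLE (Nat.le_add_right n 1))).f i)).hom y := by
  rw [seq_map_succ]
  exact nxtMap_kill hyp (stg hyp s n) i hi y hy

/-- the augmentations as a cocone. -/
noncomputable def augCocone (hyp : Hit0 F B) (s : St B M) : Cocone (seq hyp s) where
  pt := (single C (ComplexShape.up ℤ) 0).obj M
  ι := NatTrans.ofSequence (fun n => (stg hyp s n).g) (by
    intro n
    rw [seq_map_succ]
    exact (nxtMap_g hyp (stg hyp s n)).trans (Category.comp_id _).symm)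

variable [PreservesColimitsOfShape ℕ F]

omit [HasCoproducts.{u} C] [F.Additive] [PreservesFiniteLimits F] [PreservesFiniteColimits F] in
variable (F) in
lemma exists_stage (K : ℕ ⥤ CochainComplex C ℤ) (i : ℤ) (y : F.obj ((colimit K).X i)) :
    ∃ (n : ℕ) (y₀ : F.obj ((K.obj n).X i)), (F.map ((colimit.ι K n).f i)).hom y₀ = y := by
  have : PreservesFilteredColimitsOfSize.{0, 0} (forget (ModuleCat.{u} R)) :=
    preservesFilteredColimitsOfSize_shrink.{0, u, 0, u} _
  have : PreservesColimitsOfShape ℕ (forget (ModuleCat.{u} R)) :=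
    PreservesFilteredColimitsOfSize.preserves_filtered_colimits ℕ
  have hc : IsColimit ((eval C (ComplexShape.up ℤ) i ⋙ F).mapCocone (colimit.cocone K)) :=
    isColimitOfPreserves _ (colimit.isColimit K)
  exact Concrete.isColimit_exists_rep _ hc y

omit [HasCoproducts.{u} C] [PreservesFiniteLimits F] [PreservesFiniteColimits F] in
variable (F) in
lemma exists_dies (K : ℕ ⥤ CochainComplex C ℤ) (i : ℤ) (n : ℕ) (z : F.obj ((K.obj n).X i))
    (hz : (F.map ((colimit.ι K n).f i)).hom z = 0) :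
    ∃ (m : ℕ) (f : n ⟶ m), (F.map ((K.map f).f i)).hom z = 0 := by
  have : PreservesFilteredColimitsOfSize.{0, 0} (forget (ModuleCat.{u} R)) :=
    preservesFilteredColimitsOfSize_shrink.{0, u, 0, u} _
  have : PreservesColimitsOfShape ℕ (forget (ModuleCat.{u} R)) :=
    PreservesFilteredColimitsOfSize.preserves_filtered_colimits ℕ
  have hc : IsColimit ((eval C (ComplexShape.up ℤ) i ⋙ F).mapCocone (colimit.cocone K)) :=
    isColimitOfPreserves _ (colimit.isColimit K)
  obtain ⟨m, f, f', hf⟩ := Concrete.isColimit_exists_of_rep_eq _ hc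
    (i := n) (j := n) z (0 : F.obj ((K.obj n).X i)) (hz.trans (map_zero _).symm)
  refine ⟨m, f, hf.trans ?_⟩
  exact map_zero (F.map ((K.map f').f i)).hom

lemma colim_exact [F.Faithful] (hyp : Hit0 F B) (s : St B M) (i : ℤ) (hi : 1 ≤ i) :
    (colimit (seq hyp s)).ExactAt i := by
  apply exactAt_of_forall F
  intro y hy
  obtain ⟨n, y₀, hy₀⟩ := exists_stage F (seq hyp s) i y
  -- the boundary of `y₀` dies later
  have h1 : (F.map ((colimit.ι (seq hyp s) n).f (i + 1))).hom
      ((F.map (((seq hyp s).obj n).d i (i + 1))).hom y₀) = 0 := by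
    rw [← ModuleCat.comp_apply, ← F.map_comp, ← Hom.comm, F.map_comp, ModuleCat.comp_apply, hy₀, hy]
  obtain ⟨m, f, hf⟩ := exists_dies F (seq hyp s) (i + 1) n _ h1
  rw [← ModuleCat.comp_apply, ← F.map_comp, ← Hom.comm, F.map_comp, ModuleCat.comp_apply] at hf
  have hy₁ : (F.map ((colimit.ι (seq hyp s) m).f i)).hom
      ((F.map (((seq hyp s).map f).f i)).hom y₀) = y := by
    rw [← ModuleCat.comp_apply, ← F.map_comp, ← HomologicalComplex.comp_f, colimit.w, hy₀]
  generalize (F.map (((seq hyp s).map f).f i)).hom y₀ = y₁ at hf hy₁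
  obtain ⟨x, hx⟩ := seq_kill hyp s m i hi y₁ hf
  refine ⟨(F.map ((colimit.ι (seq hyp s) (m + 1)).f (i - 1))).hom x, ?_⟩
  rw [← ModuleCat.comp_apply, ← F.map_comp, Hom.comm, F.map_comp, ModuleCat.comp_apply]
  change (F.map ((colimit.ι (seq hyp s) (m + 1)).f i)).hom _ = y
  rw [hx, ← ModuleCat.comp_apply, ← F.map_comp, ← HomologicalComplex.comp_f, colimit.w]
  exact hy₁

/-- the start of the tower: `∐ T_z → M[0]`. -/
lemma exists_start [F.Faithful] (hyp : Hit0 F B) (M : C) :
    ∃ s : St B M, Epi (homologyMap s.g 0) := by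
  choose T hT f t h1 h2 h3 using fun z : F.obj M => hyp M z
  have hf : ∀ z, ∀ k, (ComplexShape.up ℤ).Rel k 0 → (T z).d k 0 ≫ f z = 0 := by
    intro z k hk
    obtain rfl : k = 0 - 1 := by simp at hk; lia
    exact h1 z
  let g : (∐ T) ⟶ (single C (ComplexShape.up ℤ) 0).obj M :=
    Sigma.desc fun z => mkHomToSingle (f z) (hf z)
  refine ⟨⟨∐ T, B.sum T hT, g⟩, ?_⟩
  have hepi : Epi ((∐ T).iCycles 0 ≫ g.f 0 ≫
      (singleObjXSelf (ComplexShape.up ℤ) 0 M).hom) := by
    apply F.epi_of_epi_map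
    rw [ModuleCat.epi_iff_surjective]
    intro z
    have hs : (F.map ((∐ T).d 0 (0 + 1))).hom ((F.map ((Sigma.ι T z).f 0)).hom (t z)) = 0 := by
      rw [← ModuleCat.comp_apply, ← F.map_comp, Hom.comm, F.map_comp, ModuleCat.comp_apply]
      change (F.map ((Sigma.ι T z).f (0 + 1))).hom ((F.map ((T z).d 0 (0 + 1))).hom (t z)) = 0
      rw [h2 z, map_zero]
    obtain ⟨w, hw⟩ := exists_cycle F (∐ T) 0 _ hs
    refine ⟨w, ?_⟩
    rw [F.map_comp, ModuleCat.comp_apply]
    change (F.map _).hom ((F.map ((∐ T).iCycles 0)).hom w) = z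
    rw [hw, ← ModuleCat.comp_apply, ← F.map_comp, ← Category.assoc, ← HomologicalComplex.comp_f]
    have : Sigma.ι T z ≫ g = mkHomToSingle (f z) (hf z) := by simp [g]
    rw [this, mkHomToSingle_f, Category.assoc, Iso.inv_hom_id, Category.comp_id]
    exact h3 z
  have hcomp : (∐ T).homologyπ 0 ≫ homologyMap g 0 ≫
      (singleObjHomologySelfIso (ComplexShape.up ℤ) 0 M).hom =
      (∐ T).iCycles 0 ≫ g.f 0 ≫ (singleObjXSelf (ComplexShape.up ℤ) 0 M).hom := by
    simp [singleObjCyclesSelfIso_hom]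
  have : Epi (homologyMap g 0 ≫ (singleObjHomologySelfIso (ComplexShape.up ℤ) 0 M).hom) :=
    @epi_of_epi_fac _ _ _ _ _ _ _ _ hepi hcomp
  exact (epi_comp_iff_of_isIso (f := homologyMap g 0) (g := _)).1 this

/-- **Theorem K'**. -/
theorem exists_flat_cover [F.Faithful] (hyp : Hit0 F B) (M : C) :
    ∃ (E : C) (p : E ⟶ M), Epi p ∧ Module.Flat R (F.obj E) := by
  obtain ⟨s, hs⟩ := exists_start hyp M
  let K := seq hyp s
  have hlb : B.LB 0 (colimit K) := B.col K (fun n => (stg hyp s n).lb)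
  have hfl := B.flat hlb (fun i hi => colim_exact hyp s i (by lia))
  let G : colimit K ⟶ (single C (ComplexShape.up ℤ) 0).obj M := colimit.desc K (augCocone hyp s)
  have hG : colimit.ι K 0 ≫ G = s.g := colimit.ι_desc _ _
  have : Epi (homologyMap G 0) := by
    have h : homologyMap (colimit.ι K 0) 0 ≫ homologyMap G 0 = homologyMap s.g 0 := by
      rw [← homologyMap_comp, hG]
      rfl
    exact @epi_of_epi_fac _ _ _ _ _ _ _ _ hs h
  exact ⟨_, homologyMap G 0 ≫ (singleObjHomologySelfIso (ComplexShape.up ℤ) 0 M).hom,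
    inferInstance, hfl⟩

end tower

end Groth.Agent.ResProp.EF.K290
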