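import Groth.Agent.ResProp.EF.K290.PStepTor

/-!
# F3: hits give flat covers (S16912)

Node F3: for a flat chart `X` of an abelian category `C` with coproducts and sequential colimits,
if every element of every `v^* Z` is hit by a complex with some lower Tor bound, then every object of
`C` is a quotient of a flat object.
-/

set_option autoImplicit false
set_option backward.defeqAttrib.useBackward true
set_option backward.isDefEq.respectTransparency false

universe w v u

open CategoryTheory CategoryTheory.Limits HomologicalComplex CochainComplex

namespace Groth.Agent.ResProp.EF.K290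

open Groth.Agent.ResProp.EF.K294

variable {A : Type u} [CommRing A] {C : Type v} [Category.{w} C] [Abelian C]
  [HasCoproducts.{u} C] [HasColimitsOfShape ℕ C] (X : Chart A C)

/-- every element is hit by a complex of Tor-amplitude `≥ 0`. -/
theorem hit0_of_hit (h : X.Hit) : Hit0 X.us X.torBd := by
  intro Z z
  obtain ⟨a, T, h1, h2⟩ := h Z z
  obtain ⟨T', h3, h4⟩ := exists_hit_zero X z a.natAbs a T (by lia) h1 h2
  exact ⟨T', h3, (isHit_iff X T' z).1 h4⟩

/-- **F3.** Hits give flat covers. -/
theorem hitToEF : X.HitToEF := fun h M => by
  have := X.preservesColimitsOfShape_us ℕ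
  exact exists_flat_cover (hit0_of_hit X h) M

end Groth.Agent.ResProp.EF.K290

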