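import Groth.Agent.ResProp.EF.K290.Tower
import Groth.Agent.ResProp.EF.K294.Tor

/-!
# The P-step (S16912, F3)
-/

set_option autoImplicit false
set_option linter.unusedSectionVars false
set_option backward.defeqAttrib.useBackward true
set_option backward.isDefEq.respectTransparency false

universe w v u

open CategoryTheory CategoryTheory.Limits HomologicalComplex CochainComplex
open CochainComplex.HomComplex

namespace Groth.Agent.ResProp.EF.K290

section cocone

variable {D : Type*} [Category* D] [Abelian D] {K L : CochainComplex D ℤ} (φ : K ⟶ L)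

lemma cocone_inl_eq :
    mappingCocone.inl φ = mappingCocone.liftCochain φ (Cochain.ofHom (𝟙 K)) (0 : Cochain K L (-1))
      (by lia) := by
  ext p
  have h := mappingCocone.id_X φ p (p + -1) rfl
  have h2 : (mappingCocone.liftCochain φ (Cochain.ofHom (𝟙 K)) (0 : Cochain K L (-1))
      (by lia)).v p p (add_zero p) ≫ 𝟙 _ = (mappingCocone.inl φ).v p p (add_zero p) := by
    rw [← h, Preadditive.comp_add, ← Category.assoc, ← Category.assoc,
      mappingCocone.liftCochain_v_fst_f, mappingCocone.liftCochain_v_snd_v]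
    simp
  rw [← h2, Category.comp_id]

lemma cocone_δ_inl :
    δ 0 1 (mappingCocone.inl φ) = -(Cochain.ofHom φ).comp (mappingCocone.inr φ).1 (zero_add 1) := by
  rw [cocone_inl_eq, mappingCocone.δ_liftCochain φ _ _ _ 1 (by lia)]
  simp

lemma cocone_inl_d (p q : ℤ) (hpq : p + 1 = q) :
    (mappingCocone.inl φ).v p p (add_zero p) ≫ (mappingCocone φ).d p q =
      K.d p q ≫ (mappingCocone.inl φ).v q q (add_zero q) -
        φ.f p ≫ (mappingCocone.inr φ).1.v p q hpq := by
  have h := Cochain.congr_v (cocone_δ_inl φ) p q hpq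
  rw [δ_zero_cochain_v, Cochain.neg_v, Cochain.comp_v _ _ _ p p q (add_zero p) hpq,
    Cochain.ofHom_v] at h
  rw [sub_eq_iff_eq_add] at h
  rw [h]
  abel

lemma cocone_inr_d (p q r : ℤ) (hpq : p + 1 = q) (hqr : q + 1 = r) :
    (mappingCocone.inr φ).1.v p q hpq ≫ (mappingCocone φ).d q r =
      -(L.d p q ≫ (mappingCocone.inr φ).1.v q r hqr) := by
  have h := Cochain.congr_v ((mappingCocone.inr φ).δ_eq_zero 2) p r (by lia)
  rw [δ_v 1 2 rfl _ p r (by lia) q q (by lia) hpq] at h
  simpa [Int.negOnePow_even 2 ⟨1, rfl⟩] using add_eq_zero_iff_eq_neg.1 h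

end cocone

section step

open Groth.Agent.ResProp.EF.K294

variable {A : Type u} [CommRing A] {C : Type v} [Category.{w} C] [Abelian C] (X : Chart A C)

variable (T : CochainComplex C ℤ)

/-- `v_* v^* T`. -/
noncomputable abbrev UT : CochainComplex C ℤ := X.ulC.obj (X.usC.obj T)

/-- the unit `T → v_* v^* T`. -/
noncomputable def eta : T ⟶ UT X T where
  f n := X.adj.unit.app (T.X n)
  comm' i j _ := (X.adj.unit.naturality (T.d i j)).symm

/-- a free module mapping onto the cycles of degree `0`. -/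
noncomputable abbrev GG : ModuleCat.{u} A := ModuleCat.of A (X.us.obj (T.cycles 0) →₀ A)

/-- the surjection. -/
noncomputable def ppi : GG X T ⟶ X.us.obj (T.cycles 0) :=
  ModuleCat.ofHom (Finsupp.linearCombination A id)

lemma ppi_surj : Function.Surjective (ppi X T).hom := by
  intro z
  exact ⟨Finsupp.single z 1, by simp [ppi]⟩

/-- `G[0] → v^* T`. -/
noncomputable def bet : (single (ModuleCat.{u} A) (ComplexShape.up ℤ) 0).obj (GG X T) ⟶ X.usC.obj T :=
  mkHomFromSingle (ppi X T ≫ X.us.map (T.iCycles 0)) (by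
    intro k _
    change (ppi X T ≫ X.us.map (T.iCycles 0)) ≫ X.us.map (T.d 0 k) = 0
    rw [Category.assoc, ← X.us.map_comp, T.iCycles_d, X.us.map_zero, comp_zero])

/-- `v_* G [0]`. -/
noncomputable abbrev AT : CochainComplex C ℤ :=
  X.ulC.obj ((single (ModuleCat.{u} A) (ComplexShape.up ℤ) 0).obj (GG X T))

/-- `v_* G [0] → cone(T → v_* v^* T)`. -/
noncomputable def thet : AT X T ⟶ mappingCone (eta X T) :=
  X.ulC.map (bet X T) ≫ mappingCone.inr (eta X T)

/-- the new complex. -/
noncomputable abbrev T1 : CochainComplex C ℤ := mappingCocone (thet X T)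

/-- the chain map `T₁ → T`. -/
noncomputable def rho : T1 X T ⟶ T :=
  mappingCocone.desc (thet X T) (0 : Cochain (AT X T) T 0) (mappingCone.fst (eta X T)) (by
    simp [thet])

lemma us_ul_surj {G N : ModuleCat.{u} A} (π : G ⟶ N) (h : Function.Surjective π.hom) :
    Function.Surjective (X.us.map (X.ul.map π)).hom := by
  have : Epi π := (ModuleCat.epi_iff_surjective π).2 h
  have : X.ul.PreservesEpimorphisms := inferInstance
  have : Epi (X.ul.map π) := inferInstance
  have := X.exact_us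
  have : PreservesFiniteColimits X.us := by
    have := X.adj.leftAdjoint_preservesColimits
    infer_instance
  have : Epi (X.us.map (X.ul.map π)) := inferInstance
  exact (ModuleCat.epi_iff_surjective _).1 this

instance : PreservesFiniteColimits X.us := by
  have := X.adj.leftAdjoint_preservesColimits
  infer_instance

lemma isHit_iff {Z : C} (z : X.us.obj Z) : X.IsHit T z ↔ Hits X.us 0 T z :=
  ⟨fun ⟨h⟩ => h, fun h => ⟨h⟩⟩

/-- if `T` hits `z`, so does `T₁`. -/
lemma isHit_T1 {Z : C} {z : X.us.obj Z} (h : X.IsHit T z) : X.IsHit (T1 X T) z := by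
  obtain ⟨f, t, h1, h2, h3⟩ := h
  obtain ⟨tc, htc⟩ := exists_cycle X.us T 0 t h2
  obtain ⟨a', ha'⟩ := us_ul_surj X (ppi X T) (ppi_surj X T)
    ((X.us.map (X.adj.unit.app (T.cycles 0))).hom tc)
  let e := singleObjXSelf (ComplexShape.up ℤ) 0 (GG X T)
  let a : X.us.obj ((AT X T).X 0) := (X.us.map (X.ul.map e.inv)).hom a'
  -- the key identity
  have key : (X.us.map ((X.ulC.map (bet X T)).f 0)).hom a = (X.us.map ((eta X T).f 0)).hom t := by
    have e1 : (bet X T).f 0 = e.hom ≫ ppi X T ≫ X.us.map (T.iCycles 0) := mkHomFromSingle_f _ _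
    have e2 : X.ul.map e.inv ≫ (X.ulC.map (bet X T)).f 0 =
        X.ul.map (ppi X T) ≫ X.ul.map (X.us.map (T.iCycles 0)) := by
      have e4 : e.inv ≫ (bet X T).f 0 = ppi X T ≫ X.us.map (T.iCycles 0) := by
        rw [e1]
        exact Iso.inv_hom_id_assoc _ _
      exact (X.ul.map_comp _ _).symm.trans ((congrArg X.ul.map e4).trans (X.ul.map_comp _ _))
    have e3 : X.adj.unit.app (T.cycles 0) ≫ X.ul.map (X.us.map (T.iCycles 0)) =
        T.iCycles 0 ≫ (eta X T).f 0 := (X.adj.unit.naturality (T.iCycles 0)).symm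
    have e5 : (X.us.map ((X.ulC.map (bet X T)).f 0)).hom a =
        (X.us.map (X.ul.map (X.us.map (T.iCycles 0)))).hom
          ((X.us.map (X.ul.map (ppi X T))).hom a') := by
      have e6 := congrArg (fun g => (X.us.map g).hom a') e2
      simp only [X.us.map_comp] at e6
      exact e6
    have e7 : (X.us.map (X.ul.map (X.us.map (T.iCycles 0)))).hom
        ((X.us.map (X.adj.unit.app (T.cycles 0))).hom tc) =
        (X.us.map ((eta X T).f 0)).hom ((X.us.map (T.iCycles 0)).hom tc) := by
      have e8 := congrArg (fun g => (X.us.map g).hom tc) e3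
      simp only [X.us.map_comp] at e8
      exact e8
    rw [e5, ha']
    refine e7.trans ?_
    rw [htc]
  let α₁ : T.X 0 ⟶ (T1 X T).X 0 := (mappingCone.inl (eta X T)).v 0 (-1) (by lia) ≫
    (mappingCocone.inr (thet X T)).1.v (-1) 0 (by lia)
  let β₁ : (AT X T).X 0 ⟶ (T1 X T).X 0 := (mappingCocone.inl (thet X T)).v 0 0 (by lia)
  let γ : (UT X T).X 0 ⟶ (T1 X T).X 1 := (mappingCone.inr (eta X T)).f 0 ≫
    (mappingCocone.inr (thet X T)).1.v 0 1 (by lia)
  have hα : α₁ ≫ (T1 X T).d 0 1 = -((eta X T).f 0 ≫ γ) + T.d 0 1 ≫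
      ((mappingCone.inl (eta X T)).v 1 0 (by lia) ≫
        (mappingCocone.inr (thet X T)).1.v 0 1 (by lia)) := by
    dsimp only [α₁, γ]
    rw [Category.assoc, cocone_inr_d (thet X T) (-1) 0 1 (by lia) (by lia), Preadditive.comp_neg,
      ← Category.assoc, mappingCone.inl_v_d (eta X T) 0 (-1) 1 (by lia) (by lia)]
    simp only [Preadditive.sub_comp, Category.assoc]
    abel
  have hβ : β₁ ≫ (T1 X T).d 0 1 = -((X.ulC.map (bet X T)).f 0 ≫ γ) := by
    dsimp only [β₁, γ]
    rw [cocone_inl_d (thet X T) 0 1 (by lia)]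
    have h0 : (AT X T).d 0 1 = 0 := by
      change X.ul.map (((single (ModuleCat.{u} A) (ComplexShape.up ℤ) 0).obj (GG X T)).d 0 1) = 0
      simp
    rw [h0, zero_comp, zero_sub]
    have h5 : (thet X T).f 0 = (X.ulC.map (bet X T)).f 0 ≫ (mappingCone.inr (eta X T)).f 0 := rfl
    rw [h5, Category.assoc]
  have hα' : α₁ ≫ (rho X T).f 0 = 𝟙 _ := by
    dsimp only [α₁, rho]
    rw [Category.assoc, mappingCocone.inr_v_desc_f, mappingCone.inl_v_fst_v]
  have hβ' : β₁ ≫ (rho X T).f 0 = 0 := by
    dsimp only [β₁, rho]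
    rw [mappingCocone.inl_v_desc_f]
    simp
  refine ⟨(rho X T).f 0 ≫ f, (X.us.map α₁).hom t - (X.us.map β₁).hom a, ?_, ?_, ?_⟩
  · rw [← Category.assoc, ← (rho X T).comm, Category.assoc, h1, comp_zero]
  · have h7 : (X.us.map ((T1 X T).d 0 1)).hom ((X.us.map α₁).hom t) =
        -((X.us.map γ).hom ((X.us.map ((eta X T).f 0)).hom t)) := by
      have h8 : (X.us.map (α₁ ≫ (T1 X T).d 0 1)).hom t =
          (X.us.map (-((eta X T).f 0 ≫ γ) + T.d 0 1 ≫
      ((mappingCone.inl (eta X T)).v 1 0 (by lia) ≫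
        (mappingCocone.inr (thet X T)).1.v 0 1 (by lia)))).hom t := by rw [hα]
      rw [X.us.map_add, X.us.map_neg, X.us.map_comp, X.us.map_comp _ γ, X.us.map_comp (T.d 0 1)] at h8
      refine Eq.trans h8 ?_
      change -((X.us.map γ).hom ((X.us.map ((eta X T).f 0)).hom t)) +
        (X.us.map _).hom ((X.us.map (T.d 0 1)).hom t) = _
      rw [h2, map_zero, add_zero]
    have h9 : (X.us.map ((T1 X T).d 0 1)).hom ((X.us.map β₁).hom a) =
        -((X.us.map γ).hom ((X.us.map ((X.ulC.map (bet X T)).f 0)).hom a)) := by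
      have h8 : (X.us.map (β₁ ≫ (T1 X T).d 0 1)).hom a =
          (X.us.map (-((X.ulC.map (bet X T)).f 0 ≫ γ))).hom a := by rw [hβ]
      rw [X.us.map_neg, X.us.map_comp, X.us.map_comp _ γ] at h8
      exact h8
    rw [map_sub, h7, h9, key, sub_self]
  · rw [map_sub, ← ModuleCat.comp_apply, ← ModuleCat.comp_apply, ← X.us.map_comp, ← X.us.map_comp,
      reassoc_of% hα', reassoc_of% hβ', zero_comp, X.us.map_zero]
    change (X.us.map f).hom t - (0 : _ →ₗ[A] _) a = z
    rw [h3, LinearMap.zero_apply, sub_zero]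

end step

end Groth.Agent.ResProp.EF.K290
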