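import Mathlib

/-!
# Abstract lower Tor bounds (S16912, F3, part B)

`TorBd v`: a family `LB m` of classes of complexes of `C` with the formal properties of
"`H^i(N ⊗^L v K) = 0` for `i < m` and all modules `N`".
-/

set_option autoImplicit false

universe w v u

open CategoryTheory CategoryTheory.Limits HomologicalComplex

namespace Groth.Agent.ResProp.EF.K290

variable {R : Type u} [CommRing R] {C : Type v} [Category.{w} C] [Abelian C]

/-- Abstract lower Tor bounds along `F : C ⥤ ModuleCat R` (only what the tower uses). -/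
structure TorBd (F : C ⥤ ModuleCat.{u} R) [HasCoproducts.{u} C] [HasColimitsOfShape ℕ C] where
  /-- `LB m K`: lower Tor bound `m` -/
  LB : ℤ → CochainComplex C ℤ → Prop
  mono : ∀ {m m' : ℤ} {K : CochainComplex C ℤ}, m' ≤ m → LB m K → LB m' K
  shift : ∀ {m : ℤ} {K : CochainComplex C ℤ} (i : ℤ), LB m K → LB (m - i) (K⟦i⟧)
  iso : ∀ {m : ℤ} {K K' : CochainComplex C ℤ}, (K ≅ K') → LB m K → LB m K'
  cone : ∀ {m : ℤ} {Q K : CochainComplex C ℤ} (φ : Q ⟶ K), LB (m + 1) Q → LB m K →
    LB m (CochainComplex.mappingCone φ)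
  sum : ∀ {m : ℤ} {ι : Type u} (K : ι → CochainComplex C ℤ), (∀ i, LB m (K i)) → LB m (∐ K)
  col : ∀ {m : ℤ} (K : ℕ ⥤ CochainComplex C ℤ), (∀ n, LB m (K.obj n)) → LB m (colimit K)
  flat : ∀ {K : CochainComplex C ℤ}, LB 0 K → (∀ i : ℤ, 0 < i → K.ExactAt i) →
    Module.Flat R (F.obj (K.homology 0))

end Groth.Agent.ResProp.EF.K290
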