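import Groth.Agent.ResProp.EF.K290.PStep
import Groth.Agent.ResProp.EF.K294.TorBdInst

/-!
# The P-step: the Tor bound (S16912, F3)
-/

set_option autoImplicit false
set_option linter.unusedSectionVars false
set_option backward.defeqAttrib.useBackward true
set_option backward.isDefEq.respectTransparency false

universe w v u

open CategoryTheory CategoryTheory.Limits HomologicalComplex CochainComplex
open CochainComplex.HomComplex

namespace Groth.Agent.ResProp.EF.K290

open Groth.Agent.ResProp.EF.K294

section single

open MonoidalCategory Groth.Agent.PerfB.RingKFlat Groth.Agent.Dcoh.KFlatFlip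
  Groth.Agent.Dcoh.KFlatSingle

variable {A : Type u} [CommRing A]

/-- a flat module in degree `0` has Tor-amplitude `≥ 0`. -/
lemma torGE_single (G : ModuleCat.{u} A) (hG : Module.Flat A G) :
    TorGE 0 ((single (ModuleCat.{u} A) (ComplexShape.up ℤ) 0).obj G) := by
  intro L hL i hi
  have h1 : (tensorLeft G).PreservesHomology := preservesHomology_tensorLeft G hG
  have h2 : (((tensorLeft G).mapHomologicalComplex (ComplexShape.up ℤ)).obj L).ExactAt i :=
    ShortComplex.Exact.map (hL.exact i hi) (tensorLeft G)
  exact (h2.of_iso (singleIso (TR A).flip L G)).of_iso (flipIso (T := TR A) _ L)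

end single

section cone

variable {A : Type u} [CommRing A]

/-- the cone of a split monomorphism of complexes. -/
lemma torGE_mappingCone_of_split {a : ℤ} {K L : CM A} (ι : K ⟶ L) (r : L ⟶ K) (h : ι ≫ r = 𝟙 K)
    (hL : TorGE a L) : TorGE a (mappingCone ι) := by
  have : IsSplitMono ι := IsSplitMono.mk' ⟨r, h⟩
  have : Mono ι := inferInstance
  let S : ShortComplex (CM A) := ShortComplex.mk ι (cokernel.π ι) (cokernel.condition ι)
  have hS : S.ShortExact := { exact := ShortComplex.exact_cokernel ι }
  have h1 : TorGE a S.X₃ := by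
    refine TorGE.of_retract (cokernel.desc ι (𝟙 L - r ≫ ι) (by simp [reassoc_of% h]))
      (cokernel.π ι) ?_ hL
    rw [← cancel_epi (cokernel.π ι)]
    simp only [cokernel.π_desc_assoc, Preadditive.sub_comp, Category.assoc, cokernel.condition,
      comp_zero, sub_zero, Category.id_comp]
    exact (Category.comp_id _).symm
  have h2 : QuasiIso (mappingCone.descShortComplex S) := mappingCone.quasiIso_descShortComplex hS
  exact (torGE_iff_of_quasiIso (mappingCone.descShortComplex S)).2 h1

end cone

section step

variable {A : Type u} [CommRing A] {C : Type v} [Category.{w} C] [Abelian C] (X : Chart A C)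

variable (T : CochainComplex C ℤ)

/-- the retraction of `v^* T → v^* v_* v^* T`. -/
noncomputable def ret : X.usC.obj (UT X T) ⟶ X.usC.obj T where
  f n := X.adj.counit.app (X.us.obj (T.X n))
  comm' i j _ := (X.adj.counit.naturality (X.us.map (T.d i j))).symm

lemma eta_ret : X.usC.map (eta X T) ≫ ret X T = 𝟙 _ := by
  ext n : 1
  exact X.adj.left_triangle_components (T.X n)

lemma torGE_T1 {a : ℤ} (ha : a + 1 ≤ 0) (h : TorGE a (X.usC.obj T)) :
    TorGE (a + 1) (X.usC.obj (T1 X T)) := by
  have h1 : TorGE a (X.usC.obj (mappingCone (eta X T))) := by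
    refine TorGE.of_iso (mappingCone.mapHomologicalComplexIso (eta X T) X.us).symm ?_
    exact torGE_mappingCone_of_split _ (ret X T) (eta_ret X T) (X.torGE_ul a _ h)
  have h2 : TorGE (a + 1) (X.usC.obj (AT X T)) :=
    (X.torGE_ul 0 _ (torGE_single (GG X T) inferInstance)).mono ha
  have h3 := X.torGE_shift (-1) (X.torGE_cone (thet X T) h2 h1)
  rw [sub_neg_eq_add] at h3
  exact h3

/-- every hit can be improved to a hit of Tor-amplitude `≥ 0`. -/
theorem exists_hit_zero {Z : C} (z : X.us.obj Z) (n : ℕ) : ∀ (a : ℤ) (T : CochainComplex C ℤ),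
    -(n : ℤ) ≤ a → TorGE a (X.usC.obj T) → X.IsHit T z →
    ∃ T' : CochainComplex C ℤ, TorGE 0 (X.usC.obj T') ∧ X.IsHit T' z := by
  induction n with
  | zero => exact fun a T ha h h' => ⟨T, h.mono (by simpa using ha), h'⟩
  | succ n ih =>
    intro a T ha h h'
    by_cases h0 : -(n : ℤ) ≤ a
    · exact ih a T h0 h h'
    · obtain rfl : a = -(n : ℤ) - 1 := by push_cast at ha; lia
      exact ih _ (T1 X T) (by lia) (torGE_T1 X T (by lia) h) (isHit_T1 X T h')

end step

end Groth.Agent.ResProp.EF.K290
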